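import Groth.Prelude.Def_EGA4b
import Mathlib

/-! Completion of a localization of `B ⊗_A Â` at the point over the closed point of `B`. -/

set_option autoImplicit false

universe u

open TensorProduct IsLocalRing

namespace H1CplBC

theorem evalₐ_factor {R : Type u} [CommRing R] (I : Ideal R) {m n : ℕ} (h : m ≤ n) (x : AdicCompletion I R) :
    Ideal.Quotient.factorPow I h (AdicCompletion.evalₐ I n x) = AdicCompletion.evalₐ I m x := by
  rw [← AdicCompletion.factor_eval_eq_evalₐ I x (le_of_eq (Ideal.mul_top _)),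
    ← AdicCompletion.factor_eval_eq_evalₐ I x (le_of_eq (Ideal.mul_top _))]
  obtain ⟨a, ha⟩ := Submodule.Quotient.mk_surjective _ (x.val n)
  change Ideal.Quotient.factorPow I h (Submodule.factor _ (x.val n)) = Submodule.factor _ (x.val m)
  rw [← x.2 h, ← ha]
  rfl

/-- Equal quotients by powers give equal completions. -/
theorem nonempty_equiv {S T : Type u} [CommRing S] [CommRing T] (I : Ideal S) (J : Ideal T)
    (q : ∀ n, S ⧸ I ^ n ≃+* T ⧸ J ^ n)
    (hq : ∀ {m n : ℕ} (h : m ≤ n) (x : S ⧸ I ^ n),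
      Ideal.Quotient.factorPow J h (q n x) = q m (Ideal.Quotient.factorPow I h x)) :
    Nonempty (AdicCompletion I S ≃+* AdicCompletion J T) := by
  have hq' : ∀ {m n : ℕ} (h : m ≤ n) (y : T ⧸ J ^ n),
      Ideal.Quotient.factorPow I h ((q n).symm y) = (q m).symm (Ideal.Quotient.factorPow J h y) := by
    intro m n h y
    apply (q m).injective
    rw [← hq, RingEquiv.apply_symm_apply, RingEquiv.apply_symm_apply]
  have c : ∀ {m n : ℕ} (h : m ≤ n), (Ideal.Quotient.factorPow J h).comp
      ((q n).toRingHom.comp (AdicCompletion.evalₐ I n).toRingHom) =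
      (q m).toRingHom.comp (AdicCompletion.evalₐ I m).toRingHom := fun {m n} h => RingHom.ext fun x => by
    change Ideal.Quotient.factorPow J h (q n (AdicCompletion.evalₐ I n x)) = _
    rw [hq, evalₐ_factor]
    rfl
  have c' : ∀ {m n : ℕ} (h : m ≤ n), (Ideal.Quotient.factorPow I h).comp
      ((q n).symm.toRingHom.comp (AdicCompletion.evalₐ J n).toRingHom) =
      (q m).symm.toRingHom.comp (AdicCompletion.evalₐ J m).toRingHom := fun {m n} h => RingHom.ext fun x => by
    change Ideal.Quotient.factorPow I h ((q n).symm (AdicCompletion.evalₐ J n x)) = _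
    rw [hq', evalₐ_factor]
    rfl
  refine ⟨RingEquiv.ofRingHom (AdicCompletion.liftRingHom J _ c) (AdicCompletion.liftRingHom I _ c')
    (RingHom.ext fun x => AdicCompletion.ext_evalₐ fun n => ?_)
    (RingHom.ext fun x => AdicCompletion.ext_evalₐ fun n => ?_)⟩
  · rw [RingHom.comp_apply, RingHom.id_apply, AdicCompletion.evalₐ_liftRingHom _ _ c]
    change q n (AdicCompletion.evalₐ I n (AdicCompletion.liftRingHom I _ c' x)) = _
    rw [AdicCompletion.evalₐ_liftRingHom _ _ c']
    exact (q n).apply_symm_apply _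
  · rw [RingHom.comp_apply, RingHom.id_apply, AdicCompletion.evalₐ_liftRingHom _ _ c']
    change (q n).symm (AdicCompletion.evalₐ J n (AdicCompletion.liftRingHom J _ c x)) = _
    rw [AdicCompletion.evalₐ_liftRingHom _ _ c]
    exact (q n).symm_apply_apply _

variable {A B : Type u} [CommRing A] [CommRing B] [IsNoetherianRing A] [IsLocalRing A]
  [IsLocalRing B] [Algebra A B] [IsLocalHom (algebraMap A B)]

omit [IsNoetherianRing A] in
theorem map_maximalIdeal_pow_le (k : ℕ) :
    (maximalIdeal A ^ k).map (algebraMap A B) ≤ maximalIdeal B ^ k := by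
  rw [Ideal.map_pow]
  exact Ideal.pow_right_mono (map_maximalIdeal_le _) k

/-- `B ⊗_A Â → B/n^k`. -/
noncomputable def ψ (k : ℕ) : B ⊗[A] EGA4.Cpl A →ₐ[A] B ⧸ maximalIdeal B ^ k :=
  Algebra.TensorProduct.lift (Ideal.Quotient.mkₐ A _)
    ((Ideal.Quotient.liftₐ (maximalIdeal A ^ k)
        ((Ideal.Quotient.mkₐ A (maximalIdeal B ^ k)).comp (Algebra.ofId A B))
        (fun a ha => Ideal.Quotient.eq_zero_iff_mem.2
          (map_maximalIdeal_pow_le k (Ideal.mem_map_of_mem _ ha)))).comp
      (AdicCompletion.evalₐ (maximalIdeal A) k))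
    fun _ _ => Commute.all _ _

omit [IsNoetherianRing A] in
theorem ψ_algebraMap (k : ℕ) (b : B) :
    ψ (A := A) k (algebraMap B (B ⊗[A] EGA4.Cpl A) b) = Ideal.Quotient.mk _ b := by
  rw [Algebra.TensorProduct.algebraMap_apply, ψ, Algebra.TensorProduct.lift_tmul, map_one, mul_one]
  rfl

/-- The decomposition `B ⊗_A Â = B + n^k`. -/
theorem exists_sub_mem (k : ℕ) (x : B ⊗[A] EGA4.Cpl A) :
    ∃ b : B, x - algebraMap B (B ⊗[A] EGA4.Cpl A) b ∈
      (maximalIdeal B ^ k).map (algebraMap B (B ⊗[A] EGA4.Cpl A)) := by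
  induction x with
  | zero => exact ⟨0, by simp⟩
  | add x y hx hy =>
    obtain ⟨b, hb⟩ := hx
    obtain ⟨c, hc⟩ := hy
    refine ⟨b + c, ?_⟩
    have := add_mem hb hc
    rwa [map_add, add_sub_add_comm]
  | tmul b a =>
    obtain ⟨a₀, ha₀⟩ := Ideal.Quotient.mk_surjective (AdicCompletion.evalₐ (maximalIdeal A) k a)
    refine ⟨b * algebraMap A B a₀, ?_⟩
    have hker : a - algebraMap A (EGA4.Cpl A) a₀ ∈
        (maximalIdeal A ^ k).map (algebraMap A (EGA4.Cpl A)) := by
      have h0 : AdicCompletion.evalₐ (maximalIdeal A) k (a - algebraMap A (EGA4.Cpl A) a₀) = 0 := by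
        rw [map_sub, AlgHom.commutes, ← ha₀]
        exact sub_self _
      have h1 : a - algebraMap A (EGA4.Cpl A) a₀ ∈
          LinearMap.ker (AdicCompletion.eval (maximalIdeal A) A k) := by
        have h2 := h0
        rw [← AdicCompletion.factor_eval_eq_evalₐ (maximalIdeal A) _ (le_of_eq (Ideal.mul_top _))] at h2
        rw [LinearMap.mem_ker]
        obtain ⟨c, hc⟩ := Submodule.Quotient.mk_surjective _
          (AdicCompletion.eval (maximalIdeal A) A k (a - algebraMap A (EGA4.Cpl A) a₀))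
        rw [← hc] at h2 ⊢
        have h3 : c ∈ maximalIdeal A ^ k := Ideal.Quotient.eq_zero_iff_mem.1 h2
        exact (Submodule.Quotient.mk_eq_zero _).2 (by simpa [smul_eq_mul, Ideal.mul_top] using h3)
      rw [← AdicCompletion.pow_smul_top_eq_ker_eval
        (maximalIdeal A).fg_of_isNoetherianRing, Ideal.smul_top_eq_map] at h1
      exact h1
    have hle : ((maximalIdeal A ^ k).map (algebraMap A (EGA4.Cpl A))).map
        (Algebra.TensorProduct.includeRight : EGA4.Cpl A →ₐ[A] B ⊗[A] EGA4.Cpl A).toRingHom ≤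
          (maximalIdeal B ^ k).map (algebraMap B (B ⊗[A] EGA4.Cpl A)) := by
      rw [Ideal.map_map, AlgHom.toRingHom_eq_coe, AlgHom.comp_algebraMap, IsScalarTower.algebraMap_eq A B, ← Ideal.map_map]
      exact Ideal.map_mono (map_maximalIdeal_pow_le k)
    have h2 := Ideal.mul_mem_left ((maximalIdeal B ^ k).map (algebraMap B (B ⊗[A] EGA4.Cpl A)))
      (b ⊗ₜ[A] (1 : EGA4.Cpl A)) (hle (Ideal.mem_map_of_mem _ hker))
    convert h2 using 1
    show b ⊗ₜ[A] a - _ = b ⊗ₜ[A] (1 : EGA4.Cpl A) * ((1 : B) ⊗ₜ[A] (a - algebraMap A (EGA4.Cpl A) a₀))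
    rw [Algebra.TensorProduct.tmul_mul_tmul, mul_one, one_mul, TensorProduct.tmul_sub,
      Algebra.TensorProduct.algebraMap_apply]
    simp only [Algebra.algebraMap_self, RingHom.id_apply]
    rw [Algebra.algebraMap_eq_smul_one a₀, Algebra.algebraMap_eq_smul_one a₀, mul_smul_comm, mul_one,
      TensorProduct.smul_tmul]

theorem ker_ψ (k : ℕ) :
    RingHom.ker (ψ (A := A) (B := B) k) =
      (maximalIdeal B ^ k).map (algebraMap B (B ⊗[A] EGA4.Cpl A)) := by
  have hle : (maximalIdeal B ^ k).map (algebraMap B (B ⊗[A] EGA4.Cpl A)) ≤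
      RingHom.ker (ψ (A := A) (B := B) k) := by
    rw [Ideal.map_le_iff_le_comap]
    intro b hb
    rw [Ideal.mem_comap, RingHom.mem_ker, ψ_algebraMap]
    exact Ideal.Quotient.eq_zero_iff_mem.2 hb
  refine le_antisymm (fun x hx => ?_) hle
  obtain ⟨b, hb⟩ := exists_sub_mem k x
  have h0 : ψ (A := A) (B := B) k (algebraMap B (B ⊗[A] EGA4.Cpl A) b) = 0 := by
    have h := hle hb
    rw [RingHom.mem_ker, map_sub, RingHom.mem_ker.1 hx, zero_sub, neg_eq_zero] at h
    exact h
  rw [ψ_algebraMap, Ideal.Quotient.eq_zero_iff_mem] at h0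
  have := add_mem hb (Ideal.mem_map_of_mem (algebraMap B (B ⊗[A] EGA4.Cpl A)) h0)
  rwa [sub_add_cancel] at this

theorem nonempty_cpl_equiv_aux (n' : Ideal (B ⊗[A] EGA4.Cpl A)) [n'.IsPrime]
    (h1 : n'.comap (algebraMap B (B ⊗[A] EGA4.Cpl A)) = maximalIdeal B)
    (L : Type u) [CommRing L] [IsLocalRing L] [Algebra (B ⊗[A] EGA4.Cpl A) L]
    [IsLocalization.AtPrime L n'] :
    Nonempty (EGA4.Cpl B ≃+* AdicCompletion (maximalIdeal L) L) := by
  let B' := B ⊗[A] EGA4.Cpl A
  let ι := algebraMap B B'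
  let i : B →+* L := (algebraMap B' L).comp ι
  haveI hm : Ideal.IsMaximal (RingHom.ker (ψ (A := A) (B := B) 1)) := by
    haveI : (maximalIdeal B ^ 1).IsMaximal := by rw [pow_one]; infer_instance
    letI := Ideal.Quotient.field (maximalIdeal B ^ 1)
    refine RingHom.ker_isMaximal_of_surjective (ψ (A := A) (B := B) 1).toRingHom fun x => ?_
    obtain ⟨b, rfl⟩ := Ideal.Quotient.mk_surjective x
    exact ⟨ι b, ψ_algebraMap 1 b⟩
  have hn' : n' = (maximalIdeal B).map ι := by
    have hle : (maximalIdeal B).map ι ≤ n' := Ideal.map_le_iff_le_comap.2 h1.ge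
    have h : RingHom.ker (ψ (A := A) (B := B) 1) = (maximalIdeal B).map ι :=
      (ker_ψ (A := A) (B := B) 1).trans (congrArg (Ideal.map ι) (pow_one (maximalIdeal B)))
    exact ((hm.eq_of_le (Ideal.IsPrime.ne_top ‹_›) (h.le.trans hle)).symm.trans h)
  have hmax : maximalIdeal L = (maximalIdeal B).map i := by
    rw [← IsLocalization.AtPrime.map_eq_maximalIdeal n' L, ← Ideal.map_map]
    exact congrArg (Ideal.map _) hn'
  have hpow : ∀ k, maximalIdeal L ^ k = (maximalIdeal B ^ k).map i := fun k => by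
    rw [hmax, Ideal.map_pow]
  have hunit : ∀ (k : ℕ) (y : n'.primeCompl), IsUnit ((ψ (A := A) (B := B) k).toRingHom y) := by
    intro k y
    obtain ⟨b, hb⟩ := exists_sub_mem (A := A) (B := B) k (y : B')
    have hψ : ψ (A := A) (B := B) k y = Ideal.Quotient.mk _ b := by
      have h : ((y : B') - ι b) ∈ RingHom.ker (ψ (A := A) (B := B) k) :=
        (ker_ψ (A := A) (B := B) k).ge hb
      rw [RingHom.mem_ker, map_sub, ψ_algebraMap, sub_eq_zero] at h
      exact h
    show IsUnit (ψ (A := A) (B := B) k y)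
    rcases Nat.eq_zero_or_pos k with rfl | hk
    · have : Subsingleton (B ⧸ maximalIdeal B ^ 0) :=
        Ideal.Quotient.subsingleton_iff.2 ((pow_zero _).trans Ideal.one_eq_top)
      exact isUnit_of_subsingleton _
    · rw [hψ]
      refine (IsLocalRing.notMem_maximalIdeal.1 fun hbm => y.2 ?_).map _
      have h3 : (y : B') - ι b ∈ n' := hn'.ge (Ideal.map_mono (Ideal.pow_le_self hk.ne') hb)
      have := add_mem h3 (show ι b ∈ n' from hn'.ge (Ideal.mem_map_of_mem ι hbm))
      rwa [sub_add_cancel] at this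
  have hle : ∀ k, maximalIdeal B ^ k ≤ (maximalIdeal L ^ k).comap i := fun k =>
    Ideal.map_le_iff_le_comap.1 (hpow k).ge
  let Q : ∀ k, B ⧸ maximalIdeal B ^ k →+* L ⧸ maximalIdeal L ^ k := fun k =>
    Ideal.quotientMap (maximalIdeal L ^ k) i (hle k)
  have hQ : ∀ k b, Q k (Ideal.Quotient.mk _ b) = Ideal.Quotient.mk _ (i b) := fun k b => rfl
  have hbij : ∀ k, Function.Bijective (Q k) := by
    intro k
    let χ : L →+* B ⧸ maximalIdeal B ^ k := IsLocalization.lift (hunit k)
    have hχ : ∀ b, χ (i b) = Ideal.Quotient.mk _ b := fun b =>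
      (IsLocalization.lift_eq (hunit k) (ι b)).trans (ψ_algebraMap k b)
    have hker : RingHom.ker χ = maximalIdeal L ^ k := by
      refine le_antisymm (fun z hz => ?_) ?_
      · obtain ⟨x, s, rfl⟩ := IsLocalization.exists_mk'_eq n'.primeCompl z
        rw [RingHom.mem_ker, IsLocalization.lift_mk', Units.mul_left_eq_zero] at hz
        have hx : x ∈ (maximalIdeal B ^ k).map ι := (ker_ψ (A := A) (B := B) k).le hz
        rw [IsLocalization.mk'_eq_mul_mk'_one, hpow, show i = (algebraMap B' L).comp ι from rfl,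
          ← Ideal.map_map]
        exact Ideal.mul_mem_right _ _ (Ideal.mem_map_of_mem _ hx)
      · rw [hpow, Ideal.map_le_iff_le_comap]
        intro b hb
        rw [Ideal.mem_comap, RingHom.mem_ker, hχ]
        exact Ideal.Quotient.eq_zero_iff_mem.2 hb
    refine ⟨(injective_iff_map_eq_zero _).2 fun x hx => ?_, fun y => ?_⟩
    · obtain ⟨b, rfl⟩ := Ideal.Quotient.mk_surjective x
      rw [hQ, Ideal.Quotient.eq_zero_iff_mem, ← hker, RingHom.mem_ker, hχ] at hx
      exact hx
    · obtain ⟨z, rfl⟩ := Ideal.Quotient.mk_surjective y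
      obtain ⟨b, hb⟩ := Ideal.Quotient.mk_surjective (χ z)
      refine ⟨Ideal.Quotient.mk _ b, ?_⟩
      rw [hQ, Ideal.Quotient.eq, ← hker, RingHom.mem_ker, map_sub, hχ, hb, sub_self]
  refine nonempty_equiv (maximalIdeal B) (maximalIdeal L)
    (fun k => RingEquiv.ofBijective _ (hbij k)) fun {m n} h x => ?_
  obtain ⟨b, rfl⟩ := Ideal.Quotient.mk_surjective x
  rfl

theorem nonempty_cpl_equiv (n' : Ideal (B ⊗[A] EGA4.Cpl A)) [n'.IsPrime]
    (h1 : n'.comap (algebraMap B (B ⊗[A] EGA4.Cpl A)) = maximalIdeal B) :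
    Nonempty (EGA4.Cpl B ≃+* EGA4.Cpl (Localization.AtPrime n')) :=
  nonempty_cpl_equiv_aux n' h1 (Localization.AtPrime n')

end H1CplBC
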